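import Mathlib
import Groth.Prelude.Def_RegImm
import Groth.Agent.H46.SyntomicLocal
import Groth.Agent.H46.GCILoc

/-!
# Transport lemmas for global / local complete intersections over a field and syntomic ring maps

* `isGlobalCI_of_tower`, `isLCIOver_of_tower`: change of the base field along a bijective
  `k → k'` (tower `k → k' → S`), both directions.
* `isLCIOver_of_algEquiv`, `isSyntomic_of_algEquiv`: transport along algebra isomorphisms.
* `isLCIOver_of_subsingleton`.
* `isLCIOver_fiber_iff`: the fibre ring may be computed with any model `K` of the residue field.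
-/

set_option autoImplicit false
set_option linter.style.haveILetI false
set_option linter.unusedSectionVars false

universe u

open TensorProduct

namespace Groth.Agent.H47.Synt

theorem isGlobalCI_of_tower {k k' S : Type u} [Field k] [Field k'] [CommRing S] [Algebra k k']
    [Algebra k S] [Algebra k' S] [IsScalarTower k k' S]
    (hb : Function.Bijective (algebraMap k k')) (h : Synt.IsGlobalCI k S) :
    Synt.IsGlobalCI k' S := by
  rcases h with hsub | ⟨n, c, hcn, φ, r, hsurj, hker, hdim⟩
  · exact Or.inl hsub
  · let m : MvPolynomial (Fin n) k →+* MvPolynomial (Fin n) k' :=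
      MvPolynomial.map (algebraMap k k')
    let φ' : MvPolynomial (Fin n) k' →ₐ[k'] S :=
      MvPolynomial.aeval (fun i => φ (MvPolynomial.X i))
    have hcomp : ∀ x, φ' (m x) = φ x := by
      intro x
      induction x using MvPolynomial.induction_on with
      | C a =>
        change φ' (MvPolynomial.map (algebraMap k k') (MvPolynomial.C a)) = φ (MvPolynomial.C a)
        rw [MvPolynomial.map_C]
        change MvPolynomial.aeval _ (MvPolynomial.C (algebraMap k k' a)) = _
        rw [MvPolynomial.aeval_C, ← IsScalarTower.algebraMap_apply,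
          ← MvPolynomial.algebraMap_eq, AlgHom.commutes]
      | add p q hp hq => rw [map_add, map_add, map_add, hp, hq]
      | mul_X p i hp =>
        rw [map_mul, map_mul, map_mul, hp]
        congr 1
        change φ' (MvPolynomial.map (algebraMap k k') (MvPolynomial.X i)) = _
        rw [MvPolynomial.map_X]
        exact MvPolynomial.aeval_X _ i
    have hmsurj : Function.Surjective m := MvPolynomial.map_surjective _ hb.surjective
    refine Or.inr ⟨n, c, hcn, φ', fun i => m (r i), ?_, ?_, hdim⟩
    · intro s
      obtain ⟨x, rfl⟩ := hsurj s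
      exact ⟨m x, hcomp x⟩
    · have hk : RingHom.ker φ'.toRingHom = Ideal.map m (RingHom.ker φ.toRingHom) := by
        apply le_antisymm
        · intro x hx
          obtain ⟨y, rfl⟩ := hmsurj x
          refine Ideal.mem_map_of_mem _ ?_
          rw [RingHom.mem_ker] at hx ⊢
          change φ y = 0
          rw [← hcomp y]
          exact hx
        · rw [Ideal.map_le_iff_le_comap]
          intro y hy
          rw [Ideal.mem_comap, RingHom.mem_ker]
          change φ' (m y) = 0
          rw [hcomp y]
          exact hy
      rw [hk, hker, Ideal.map_span]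
      congr 1
      ext x
      simp only [Set.mem_image, Set.mem_range, exists_exists_eq_and]

theorem isLCIOver_of_tower {k k' S : Type u} [Field k] [Field k'] [CommRing S] [Algebra k k']
    [Algebra k S] [Algebra k' S] [IsScalarTower k k' S]
    (hb : Function.Bijective (algebraMap k k')) (h : Synt.IsLCIOver k S) :
    Synt.IsLCIOver k' S := by
  obtain ⟨hft, hloc⟩ := h
  refine ⟨Algebra.FiniteType.of_restrictScalars_finiteType k k' S, fun p => ?_⟩
  obtain ⟨g, hg, hG⟩ := hloc p
  exact ⟨g, hg, isGlobalCI_of_tower hb hG⟩

/-- The converse direction: from `k'` down to `k`. -/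
theorem isLCIOver_of_tower' {k k' S : Type u} [Field k] [Field k'] [CommRing S] [Algebra k k']
    [Algebra k S] [Algebra k' S] [IsScalarTower k k' S]
    (hb : Function.Bijective (algebraMap k k')) (h : Synt.IsLCIOver k' S) :
    Synt.IsLCIOver k S := by
  -- use the inverse equivalence to view `k` as a `k'`-algebra
  let e : k ≃+* k' := RingEquiv.ofBijective (algebraMap k k') hb
  letI : Algebra k' k := e.symm.toRingHom.toAlgebra
  have hsymm : ∀ x : k', algebraMap k' k x = e.symm x := fun _ => rfl
  haveI : IsScalarTower k' k S := IsScalarTower.of_algebraMap_eq fun x => by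
    rw [hsymm, IsScalarTower.algebraMap_apply k k' S]
    congr 1
    exact (e.apply_symm_apply x).symm
  exact isLCIOver_of_tower (k := k') (k' := k) e.symm.bijective h

theorem isLCIOver_of_algEquiv {k S S' : Type u} [Field k] [CommRing S] [CommRing S']
    [Algebra k S] [Algebra k S'] (e : S ≃ₐ[k] S') (h : Synt.IsLCIOver k S) :
    Synt.IsLCIOver k S' := by
  obtain ⟨hft, hloc⟩ := h
  refine ⟨Algebra.FiniteType.equiv hft e, fun p' => ?_⟩
  obtain ⟨g, hg, hG⟩ := hloc ⟨p'.asIdeal.comap (e : S →+* S'), inferInstance⟩
  refine ⟨e g, hg, ?_⟩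
  have H : Submonoid.map e (Submonoid.powers g) = Submonoid.powers (e g) := by
    rw [Submonoid.map_powers]
  exact Groth.Agent.H46.isGlobalCI_of_algEquiv
    (IsLocalization.algEquivOfAlgEquiv (Localization.Away g) (Localization.Away (e g)) e H) hG

theorem isLCIOver_of_subsingleton (k S : Type u) [Field k] [CommRing S] [Algebra k S]
    [Subsingleton S] : Synt.IsLCIOver k S := by
  refine ⟨?_, fun p => ?_⟩
  · exact Algebra.FiniteType.of_surjective (Algebra.ofId k S)
      (fun x => ⟨0, Subsingleton.elim _ _⟩)
  · exact absurd (Subsingleton.elim (1 : S) 0 ▸ p.asIdeal.zero_mem :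
      (1 : S) ∈ p.asIdeal) (p.asIdeal.ne_top_iff_one.mp p.isPrime.ne_top)

/-- The fibre ring of `T` at `p` may be computed with any model `K` of the residue field. -/
theorem isLCIOver_fiber_iff {R T : Type u} [CommRing R] [CommRing T] [Algebra R T]
    (p : Ideal R) [p.IsPrime] (K : Type u) [Field K] [Algebra R K] [Algebra p.ResidueField K]
    [IsScalarTower R p.ResidueField K]
    (hb : Function.Bijective (algebraMap p.ResidueField K)) :
    Synt.IsLCIOver p.ResidueField (p.Fiber T) ↔ Synt.IsLCIOver K (K ⊗[R] T) := by
  let e₀ : p.ResidueField ≃ₐ[p.ResidueField] K :=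
    AlgEquiv.ofBijective (Algebra.ofId p.ResidueField K) hb
  let e₁ : p.ResidueField ≃ₐ[R] K := e₀.restrictScalars R
  let e : p.ResidueField ⊗[R] T ≃ₐ[p.ResidueField] K ⊗[R] T :=
    Algebra.TensorProduct.congr e₀ (AlgEquiv.refl (R := R) (A₁ := T))
  constructor
  · intro h
    exact isLCIOver_of_tower hb (isLCIOver_of_algEquiv e h)
  · intro h
    exact isLCIOver_of_algEquiv e.symm (isLCIOver_of_tower' hb h)

theorem isSyntomic_of_algEquiv {R S S' : Type u} [CommRing R] [CommRing S] [CommRing S']
    [Algebra R S] [Algebra R S'] (e : S ≃ₐ[R] S') (h : Synt.IsSyntomic R S) :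
    Synt.IsSyntomic R S' := by
  obtain ⟨hflat, hfp, hfib⟩ := h
  refine ⟨Module.Flat.of_linearEquiv e.toLinearEquiv.symm, Algebra.FinitePresentation.equiv e,
    fun p => ?_⟩
  exact isLCIOver_of_algEquiv
    (Algebra.TensorProduct.congr (AlgEquiv.refl (R := p.asIdeal.ResidueField)
      (A₁ := p.asIdeal.ResidueField)) e) (hfib p)

end Groth.Agent.H47.Synt
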