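import Mathlib
import Groth.Prelude.Def_RegImm
import Groth.Agent.H47.Synt.Transport
import Groth.Agent.H46.SyntomicLocal
import Groth.Agent.H46.GCILoc

/-!
# Syntomic ring maps form a local property of ring homomorphisms

`SyntHom f` is `Synt.IsSyntomic` for the algebra structure given by the ring hom `f`.  We show
`RingHom.PropertyIsLocal SyntHom`.
-/

set_option autoImplicit false
set_option linter.style.haveILetI false
set_option linter.unusedSectionVars false

universe u

open TensorProduct

namespace Groth.Agent.H47.Synt

/-- Localizing the algebra at one element preserves syntomic. -/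
theorem isSyntomic_away {R S : Type u} [CommRing R] [CommRing S] [Algebra R S]
    (h : Synt.IsSyntomic R S) (g : S) : Synt.IsSyntomic R (Localization.Away g) := by
  obtain ⟨hflat, hfp, hfib⟩ := h
  have : Module.Flat S (Localization.Away g) := IsLocalization.flat _ (Submonoid.powers g)
  have : Algebra.FinitePresentation S (Localization.Away g) :=
    IsLocalization.Away.finitePresentation g
  refine ⟨Module.Flat.trans R S _, Algebra.FinitePresentation.trans R S _, fun p => ?_⟩
  set κ := p.asIdeal.ResidueField
  let Sg := Localization.Away g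
  let g' : κ ⊗[R] S := (1 : κ) ⊗ₜ[R] g
  letI : Algebra (κ ⊗[R] S) (κ ⊗[R] Sg) :=
    (Groth.Agent.H46.tensorAwayMap R κ S Sg).toRingHom.toAlgebra
  have hloc : IsLocalization.Away g' (κ ⊗[R] Sg) :=
    Groth.Agent.H46.isLocalization_away_tensor R κ S Sg g
  have tκ : IsScalarTower κ (κ ⊗[R] S) (κ ⊗[R] Sg) := IsScalarTower.of_algebraMap_eq fun k => by
    change _ = Groth.Agent.H46.tensorAwayMap R κ S Sg (algebraMap κ (κ ⊗[R] S) k)
    exact ((Groth.Agent.H46.tensorAwayMap R κ S Sg).commutes k).symm
  have hft : Algebra.FiniteType κ (κ ⊗[R] S) := (hfib p).1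
  have h1 : Synt.IsLCIOver κ (Localization.Away g') :=
    Groth.Agent.H46.GCILoc.isLCIOver_away g' (hfib p)
  let e : Localization.Away g' ≃ₐ[κ ⊗[R] S] (κ ⊗[R] Sg) :=
    IsLocalization.algEquiv (Submonoid.powers g') _ _
  exact isLCIOver_of_algEquiv (e.restrictScalars κ) h1

section Base

variable {R R' T : Type u} [CommRing R] [CommRing R'] [CommRing T] [Algebra R R'] [Algebra R' T]
  [Algebra R T] [IsScalarTower R R' T]

/-- The residue field of a prime of a localization, as a model of the residue field of the
contraction: the comparison of fibres. -/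
theorem isLCIOver_fiber_localization_iff (M : Submonoid R) [IsLocalization M R']
    (p' : Ideal R') [p'.IsPrime] (p : Ideal R) [p.IsPrime]
    (hp : p = p'.comap (algebraMap R R')) :
    Synt.IsLCIOver p.ResidueField (p.Fiber T) ↔ Synt.IsLCIOver p'.ResidueField (p'.Fiber T) := by
  set K := p'.ResidueField
  letI : Algebra p.ResidueField K := (Ideal.ResidueField.map p p' (algebraMap R R') hp).toAlgebra
  have hb : Function.Bijective (algebraMap p.ResidueField K) :=
    (RingHom.surjectiveOnStalks_of_isLocalization M R').residueFieldMap_bijective p p' hp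
  haveI : IsScalarTower R p.ResidueField K := IsScalarTower.of_algebraMap_eq fun r => by
    change _ = Ideal.ResidueField.map p p' (algebraMap R R') hp (algebraMap R p.ResidueField r)
    rw [Ideal.ResidueField.map_algebraMap, ← IsScalarTower.algebraMap_apply]
  rw [isLCIOver_fiber_iff (T := T) p K hb]
  haveI : TensorProduct.CompatibleSMul R R' K T :=
    IsLocalization.tensorProduct_compatibleSMul M R' K T
  let e : K ⊗[R'] T ≃ₐ[K] K ⊗[R] T := Algebra.TensorProduct.equivOfCompatibleSMul R R' K K T
  exact ⟨fun h => isLCIOver_of_algEquiv e.symm h, fun h => isLCIOver_of_algEquiv e h⟩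

/-- Syntomic over a localization `R_r` of `R` implies syntomic over `R`. -/
theorem isSyntomic_of_away_base (r : R) [IsLocalization.Away r R']
    (h : Synt.IsSyntomic R' T) : Synt.IsSyntomic R T := by
  obtain ⟨hflat, hfp, hfib⟩ := h
  have : Module.Flat R R' := IsLocalization.flat _ (Submonoid.powers r)
  have : Algebra.FinitePresentation R R' := IsLocalization.Away.finitePresentation r
  refine ⟨Module.Flat.trans R R' _, Algebra.FinitePresentation.trans R R' _, fun p => ?_⟩
  by_cases hr : r ∈ p.asIdeal
  · -- the fibre is the zero ring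
    haveI : Subsingleton (p.asIdeal.Fiber T) := by
      obtain ⟨t, ht⟩ := (IsLocalization.Away.algebraMap_isUnit (S := R') r).map (algebraMap R' T)
        |>.exists_right_inv
      rw [← IsScalarTower.algebraMap_apply] at ht
      refine subsingleton_of_zero_eq_one ?_
      have h0 : algebraMap R p.asIdeal.ResidueField r = 0 :=
        Ideal.algebraMap_residueField_eq_zero.mpr hr
      calc (0 : p.asIdeal.Fiber T) = (algebraMap R p.asIdeal.ResidueField r) ⊗ₜ[R] t := by
            rw [h0, TensorProduct.zero_tmul]
        _ = (r • (1 : p.asIdeal.ResidueField)) ⊗ₜ[R] t := by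
            rw [Algebra.algebraMap_eq_smul_one]
        _ = (1 : p.asIdeal.ResidueField) ⊗ₜ[R] (r • t) := by
            rw [TensorProduct.smul_tmul]
        _ = (1 : p.asIdeal.ResidueField) ⊗ₜ[R] (1 : T) := by
            rw [Algebra.smul_def, ht]
        _ = 1 := rfl
    exact isLCIOver_of_subsingleton _ _
  · have hdisj : Disjoint (Submonoid.powers r : Set R) (p.asIdeal : Set R) := by
      rw [Set.disjoint_left]
      rintro _ ⟨n, rfl⟩ hn
      exact hr (p.isPrime.mem_of_pow_mem n hn)
    have hp' : (Ideal.map (algebraMap R R') p.asIdeal).IsPrime :=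
      IsLocalization.isPrime_of_isPrime_disjoint (Submonoid.powers r) R' p.asIdeal p.isPrime hdisj
    have hcomap : p.asIdeal = (Ideal.map (algebraMap R R') p.asIdeal).comap (algebraMap R R') :=
      (IsLocalization.under_map_of_isPrime_disjoint (Submonoid.powers r) R' p.isPrime hdisj).symm
    exact (isLCIOver_fiber_localization_iff (T := T) (Submonoid.powers r) _ p.asIdeal hcomap).mpr
      (hfib ⟨_, hp'⟩)

/-- Syntomic over `R` implies syntomic over a localization `R_r` through which the structure map
factors. -/
theorem isSyntomic_of_tower_away (r : R) [IsLocalization.Away r R']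
    (h : Synt.IsSyntomic R T) : Synt.IsSyntomic R' T := by
  obtain ⟨hflat, hfp, hfib⟩ := h
  have : Algebra.FinitePresentation R R' := IsLocalization.Away.finitePresentation r
  refine ⟨(Module.flat_iff_of_isLocalization R' (Submonoid.powers r) T).mpr hflat,
    Algebra.FinitePresentation.of_restrict_scalars_finitePresentation R R' T, fun p' => ?_⟩
  haveI : (p'.asIdeal.comap (algebraMap R R')).IsPrime := Ideal.comap_isPrime _ _
  exact (isLCIOver_fiber_localization_iff (T := T) (Submonoid.powers r) p'.asIdeal
    (p'.asIdeal.comap (algebraMap R R')) rfl).mp (hfib ⟨p'.asIdeal.comap (algebraMap R R'), this⟩)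

end Base

/-- The ring hom property "syntomic". -/
def SyntHom {R S : Type u} [CommRing R] [CommRing S] (f : R →+* S) : Prop :=
  @Synt.IsSyntomic R _ S _ f.toAlgebra

theorem syntHom_algebraMap_iff {R S : Type u} [CommRing R] [CommRing S] [Algebra R S] :
    SyntHom (algebraMap R S) ↔ Synt.IsSyntomic R S := by
  unfold SyntHom
  have : (algebraMap R S).toAlgebra = ‹Algebra R S› := Algebra.algebra_ext _ _ (fun _ => rfl)
  rw [this]

theorem syntHom_stableUnderCompositionWithLocalizationAwayTarget :
    RingHom.StableUnderCompositionWithLocalizationAwayTarget SyntHom := by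
  intro R S T _ _ _ _ s _ f hf
  letI := f.toAlgebra
  letI : Algebra R T := ((algebraMap S T).comp f).toAlgebra
  haveI : IsScalarTower R S T := IsScalarTower.of_algebraMap_eq fun _ => rfl
  change Synt.IsSyntomic R T
  have h1 : Synt.IsSyntomic R (Localization.Away s) := isSyntomic_away hf s
  let e : Localization.Away s ≃ₐ[S] T := IsLocalization.algEquiv (Submonoid.powers s) _ _
  exact isSyntomic_of_algEquiv (e.restrictScalars R) h1

theorem syntHom_stableUnderCompositionWithLocalizationAwaySource :
    RingHom.StableUnderCompositionWithLocalizationAwaySource SyntHom := by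
  intro R S T _ _ _ _ r _ f hf
  letI := f.toAlgebra
  letI : Algebra R T := (f.comp (algebraMap R S)).toAlgebra
  haveI : IsScalarTower R S T := IsScalarTower.of_algebraMap_eq fun _ => rfl
  change Synt.IsSyntomic R T
  exact isSyntomic_of_away_base (R' := S) r hf

theorem syntHom_localizationAwayPreserves : RingHom.LocalizationAwayPreserves SyntHom := by
  intro R S _ _ f r R' S' _ _ _ _ _ _ hf
  letI := f.toAlgebra
  letI : Algebra R S' := ((algebraMap S S').comp f).toAlgebra
  haveI : IsScalarTower R S S' := IsScalarTower.of_algebraMap_eq fun _ => rfl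
  letI : Algebra R' S' := (IsLocalization.Away.map R' S' f r).toAlgebra
  haveI : IsScalarTower R R' S' := IsScalarTower.of_algebraMap_eq fun x => by
    change (algebraMap S S') (f x) = IsLocalization.Away.map R' S' f r (algebraMap R R' x)
    exact (IsLocalization.map_eq _ x).symm
  change Synt.IsSyntomic R' S'
  have h1 : Synt.IsSyntomic R S' :=
    syntHom_stableUnderCompositionWithLocalizationAwayTarget S' (f r) f hf
  exact isSyntomic_of_tower_away (R := R) r h1

theorem syntHom_ofLocalizationSpanTarget : RingHom.OfLocalizationSpanTarget SyntHom := by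
  rw [RingHom.ofLocalizationSpanTarget_iff_finite]
  intro R S _ _ f s hs H
  letI := f.toAlgebra
  change Synt.IsSyntomic R S
  refine Groth.Agent.H46.isSyntomic_of_span R S s hs fun g hg => ?_
  have := H ⟨g, hg⟩
  rw [← syntHom_algebraMap_iff]
  convert this using 1
  exact IsScalarTower.algebraMap_eq R S _

theorem syntHom_propertyIsLocal : RingHom.PropertyIsLocal SyntHom where
  localizationAwayPreserves := syntHom_localizationAwayPreserves
  ofLocalizationSpanTarget := syntHom_ofLocalizationSpanTarget
  ofLocalizationSpan := syntHom_ofLocalizationSpanTarget.ofLocalizationSpan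
    syntHom_stableUnderCompositionWithLocalizationAwaySource
  StableUnderCompositionWithLocalizationAwayTarget :=
    syntHom_stableUnderCompositionWithLocalizationAwayTarget

theorem syntHom_respectsIso : RingHom.RespectsIso SyntHom :=
  syntHom_propertyIsLocal.respectsIso

end Groth.Agent.H47.Synt
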