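import Mathlib
import Groth.Prelude.Def_RegImm
import Groth.Agent.H47.Synt.Local

/-!
# Syntomic morphisms of schemes via `HasRingHomProperty`
-/

set_option autoImplicit false
set_option linter.style.haveILetI false
set_option linter.unusedSectionVars false

universe u

open AlgebraicGeometry CategoryTheory Limits

namespace Groth.Agent.H47.Synt

/-- The morphism property of schemes induced by the ring hom property `SyntHom`. -/
def SyntMor : MorphismProperty Scheme.{u} := affineLocally SyntHom

instance : HasRingHomProperty SyntMor.{u} SyntHom where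
  isLocal_ringHomProperty := syntHom_propertyIsLocal
  eq_affineLocally' := rfl

variable {X S : Scheme.{u}}

theorem isSyntomicMor_iff (f : X ⟶ S) : Synt.IsSyntomicMor f ↔ SyntMor f := by
  rw [HasRingHomProperty.iff_exists_appLE (P := SyntMor)
    syntHom_stableUnderCompositionWithLocalizationAwaySource]
  constructor
  · intro h x
    obtain ⟨U, V, e, hx, hs⟩ := h x
    exact ⟨V, U, hx, e, hs⟩
  · intro h x
    obtain ⟨V, U, hx, e, hs⟩ := h x
    exact ⟨U, V, e, hx, hs⟩

theorem isSyntomicMor_iff_forall (f : X ⟶ S) :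
    Synt.IsSyntomicMor f ↔
      ∀ (U : X.affineOpens) (V : S.affineOpens) (e : U.1 ≤ f ⁻¹ᵁ V.1),
        letI := (f.appLE V.1 U.1 e).hom.toAlgebra
        Synt.IsSyntomic Γ(S, V.1) Γ(X, U.1) := by
  rw [isSyntomicMor_iff, HasRingHomProperty.iff_appLE (P := SyntMor)]
  exact ⟨fun h U V e => h V U e, fun h V U e => h U V e⟩

/-- `SyntHom` of `appLE` on an affine pair is `SyntMor` of the restriction. -/
theorem syntHom_appLE_iff_resLE (f : X ⟶ S) {U : X.Opens} {V : S.Opens} (hU : IsAffineOpen U)
    (hV : IsAffineOpen V) (e : U ≤ f ⁻¹ᵁ V) :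
    SyntHom (f.appLE V U e).hom ↔ SyntMor (f.resLE V U e) := by
  haveI : IsAffine (U : Scheme) := hU
  haveI : IsAffine (V : Scheme) := hV
  rw [HasRingHomProperty.iff_of_isAffine (P := SyntMor)]
  have hiso : (RingHom.toMorphismProperty SyntHom).RespectsIso :=
    RingHom.toMorphismProperty_respectsIso_iff.mp syntHom_respectsIso
  exact ((RingHom.toMorphismProperty SyntHom).arrow_mk_iso_iff (arrowResLEAppIso f V U e)).symm

theorem syntMor_respects_isOpenImmersion : SyntMor.{u}.Respects @IsOpenImmersion :=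
  HasRingHomProperty.respects_isOpenImmersion (P := SyntMor)
    syntHom_stableUnderCompositionWithLocalizationAwaySource

/-- If `f` is syntomic at `x`, then for every affine open `V ∋ f x` there is an affine open
`U ∋ x` mapping into `V` with `Γ(V) → Γ(U)` syntomic. -/
theorem exists_syntHom_appLE_of_isSyntomicAt (f : X ⟶ S) (x : X) (h : Synt.IsSyntomicAt f x)
    (V : S.affineOpens) (hV : f x ∈ V.1) :
    ∃ (U : X.affineOpens) (e : U.1 ≤ f ⁻¹ᵁ V.1), x ∈ U.1 ∧ SyntHom (f.appLE V.1 U.1 e).hom := by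
  obtain ⟨U₂, V₂, e₂, hx₂, h₂⟩ := h
  obtain ⟨V', U', hV'V, -, hxU', e', h'⟩ :=
    exists_affineOpens_le_appLE_of_appLE (P := SyntHom) (f := f)
      syntHom_stableUnderCompositionWithLocalizationAwayTarget
      syntHom_localizationAwayPreserves x V.1 V₂ ⊤ U₂ trivial hx₂ e₂ h₂ hV
  have e : U'.1 ≤ f ⁻¹ᵁ V.1 := e'.trans ((TopologicalSpace.Opens.map f.base).map hV'V.hom).le
  refine ⟨U', e, hxU', ?_⟩
  rw [syntHom_appLE_iff_resLE f U'.2 V.2 e]
  rw [syntHom_appLE_iff_resLE f U'.2 V'.2 e'] at h'
  have := syntMor_respects_isOpenImmersion.postcomp (S.homOfLE hV'V) inferInstance _ h'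
  rwa [Scheme.Hom.resLE_map] at this

end Groth.Agent.H47.Synt
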