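import Mathlib
import Groth.Prelude.Def_RegImm
import Groth.Agent.H47.Synt.Scheme

/-!
# Flat + locally of finite presentation + syntomic fibres ⇒ syntomic
-/

set_option autoImplicit false
set_option linter.style.haveILetI false
set_option linter.unusedSectionVars false

universe u

open AlgebraicGeometry CategoryTheory Limits TensorProduct

namespace Groth.Agent.H47.Synt

/-- Over a field, a syntomic algebra is a local complete intersection. -/
theorem isLCIOver_of_isSyntomic_field {k B : Type u} [Field k] [CommRing B] [Algebra k B]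
    (h : Synt.IsSyntomic k B) : Synt.IsLCIOver k B := by
  haveI : (⊥ : Ideal k).IsMaximal := Ideal.bot_isMaximal
  have h0 := h.2.2 ⟨⊥, inferInstance⟩
  set κ := (⊥ : Ideal k).ResidueField
  have hb : Function.Bijective (algebraMap k κ) :=
    ⟨(algebraMap k κ).injective, Ideal.algebraMap_residueField_surjective ⊥⟩
  have h1 : Synt.IsLCIOver k (κ ⊗[k] B) := isLCIOver_of_tower' hb h0
  let e₀ : k ≃ₐ[k] κ := AlgEquiv.ofBijective (Algebra.ofId k κ) hb
  let e : κ ⊗[k] B ≃ₐ[k] B :=
    (Algebra.TensorProduct.congr e₀.symm (AlgEquiv.refl (R := k) (A₁ := B))).trans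
      (Algebra.TensorProduct.lid k B)
  exact isLCIOver_of_algEquiv e h1

variable {X S : Scheme.{u}}

/-- Syntomic fibres restrict along open immersions. -/
theorem syntMor_fiber_of_isOpenImmersion {X' S' : Scheme.{u}} (f : X ⟶ S) (f' : X' ⟶ S')
    (j : X' ⟶ X) (i : S' ⟶ S) [IsOpenImmersion j] [IsOpenImmersion i] (hc : f' ≫ i = j ≫ f)
    (s' : S') (h : SyntMor (f.fiberToSpecResidueField (i s'))) :
    SyntMor (f'.fiberToSpecResidueField s') := by
  let m : f'.fiber s' ⟶ f.fiber (i s') :=
    pullback.map f' (S'.fromSpecResidueField s') f (S.fromSpecResidueField (i s')) j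
      (Spec.map (i.residueFieldMap s')) i hc (by simp)
  have hm : m ≫ f.fiberToSpecResidueField (i s') =
      f'.fiberToSpecResidueField s' ≫ Spec.map (i.residueFieldMap s') :=
    pullback.lift_snd _ _ _
  haveI : IsOpenImmersion m := Scheme.pullback_map_isOpenImmersion ..
  have h2 := syntMor_respects_isOpenImmersion.precomp m inferInstance _ h
  rw [hm] at h2
  exact (SyntMor.cancel_right_of_respectsIso _ (Spec.map (i.residueFieldMap s'))).mp h2

/-- **Flat, locally of finite presentation, with syntomic fibres ⇒ syntomic.** -/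
theorem isSyntomicMor_of_fibres (f : X ⟶ S) [Flat f] [LocallyOfFinitePresentation f]
    (hfib : ∀ s : S, Synt.IsSyntomicMor (f.fiberToSpecResidueField s)) :
    Synt.IsSyntomicMor f := by
  rw [isSyntomicMor_iff_forall]
  intro U V e
  letI alg : Algebra Γ(S, V.1) Γ(X, U.1) := (f.appLE V.1 U.1 e).hom.toAlgebra
  have hfl : (f.appLE V.1 U.1 e).hom.Flat :=
    HasRingHomProperty.appLE (P := @Flat) f inferInstance V U e
  have hfp : (f.appLE V.1 U.1 e).hom.FinitePresentation :=
    HasRingHomProperty.appLE (P := @LocallyOfFinitePresentation) f inferInstance V U e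
  refine ⟨hfl, hfp, fun p => ?_⟩
  have h1 : SyntMor (f.fiberToSpecResidueField (V.2.fromSpec p)) :=
    (isSyntomicMor_iff _).mp (hfib _)
  have h2 : SyntMor ((Spec.map (f.appLE V.1 U.1 e)).fiberToSpecResidueField p) :=
    syntMor_fiber_of_isOpenImmersion f (Spec.map (f.appLE V.1 U.1 e)) U.2.fromSpec V.2.fromSpec
      (IsAffineOpen.SpecMap_appLE_fromSpec f V.2 U.2 e) p h1
  have h3 := (SyntMor.arrow_mk_iso_iff
    (Spec.fiberToSpecResidueFieldIso Γ(S, V.1) Γ(X, U.1) p)).mp h2
  rw [HasRingHomProperty.Spec_iff (P := SyntMor)] at h3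
  exact isLCIOver_of_isSyntomic_field (syntHom_algebraMap_iff.mp h3)

end Groth.Agent.H47.Synt
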