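import Mathlib
import Groth.Prelude.Def_RegImm
import Groth.Agent.H47.Synt.Scheme
import Groth.Agent.H46.SyntLocal
import Groth.Agent.H46.RelGCIFlat

/-!
# Syntomic at a point = locally standard syntomic
-/

set_option autoImplicit false
set_option linter.style.haveILetI false
set_option linter.unusedSectionVars false

universe u

open AlgebraicGeometry CategoryTheory Limits

namespace Groth.Agent.H47.Synt

variable {X S : Scheme.{u}}

/-- A standard syntomic restriction between affine opens gives a syntomic ring map. -/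
theorem syntHom_appLE_of_isStandardSyntomic (f : X ⟶ S) (U : X.affineOpens) (V : S.affineOpens)
    (e : U.1 ≤ f ⁻¹ᵁ V.1) (h : Synt.IsStandardSyntomic (f.resLE V.1 U.1 e)) :
    SyntHom (f.appLE V.1 U.1 e).hom := by
  obtain ⟨R, _, n, c, F, hF, e₁, e₂, hsq⟩ := h
  rw [syntHom_appLE_iff_resLE f U.2 V.2 e]
  have h1 : SyntMor (Spec.map (CommRingCat.ofHom (algebraMap R (Synt.RelGCIRing R n c F)))) := by
    rw [HasRingHomProperty.Spec_iff (P := SyntMor)]
    exact syntHom_algebraMap_iff.mpr (Groth.Agent.H46.RelGCIFlat.isSyntomic R n c F hF)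
  have h2 : f.resLE V.1 U.1 e =
      e₁.hom ≫ Spec.map (CommRingCat.ofHom (algebraMap R (Synt.RelGCIRing R n c F))) ≫ e₂.inv := by
    rw [← Category.assoc, hsq, Category.assoc, Iso.hom_inv_id, Category.comp_id]
  rw [h2, SyntMor.cancel_left_of_respectsIso, SyntMor.cancel_right_of_respectsIso]
  exact h1

/-- A syntomic ring map on an affine pair is, near any point, standard syntomic. -/
theorem exists_isStandardSyntomic_of_syntHom (f : X ⟶ S) (x : X) (U₀ : X.affineOpens)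
    (V : S.affineOpens) (e₀ : U₀.1 ≤ f ⁻¹ᵁ V.1) (hx : x ∈ U₀.1)
    (h : SyntHom (f.appLE V.1 U₀.1 e₀).hom) :
    ∃ (U : X.affineOpens) (e : U.1 ≤ f ⁻¹ᵁ V.1), x ∈ U.1 ∧
      Synt.IsStandardSyntomic (f.resLE V.1 U.1 e) := by
  letI algRA : Algebra Γ(S, V.1) Γ(X, U₀.1) := (f.appLE V.1 U₀.1 e₀).hom.toAlgebra
  have hRA : ∀ r, algebraMap Γ(S, V.1) Γ(X, U₀.1) r = (f.appLE V.1 U₀.1 e₀).hom r := fun _ => rfl
  have hs : Synt.IsSyntomic Γ(S, V.1) Γ(X, U₀.1) := h
  -- the prime of `x`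
  obtain ⟨y, hy⟩ : x ∈ Set.range U₀.2.fromSpec := by
    rw [U₀.2.range_fromSpec]; exact hx
  obtain ⟨g, hgq, n, c, F, hF, ⟨ε⟩⟩ :=
    Groth.Agent.H46.SyntLocal.main Γ(S, V.1) Γ(X, U₀.1) hs y.asIdeal
  have hU : IsAffineOpen (X.basicOpen g) := U₀.2.basicOpen g
  have hUU₀ : X.basicOpen g ≤ U₀.1 := X.basicOpen_le g
  have e : X.basicOpen g ≤ f ⁻¹ᵁ V.1 := hUU₀.trans e₀
  have hxU : x ∈ X.basicOpen g := by
    have : y ∈ U₀.2.fromSpec ⁻¹ᵁ X.basicOpen g := by
      rw [U₀.2.fromSpec_preimage_basicOpen]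
      exact hgq
    rw [← hy]
    exact this
  refine ⟨⟨X.basicOpen g, hU⟩, e, hxU, Γ(S, V.1), inferInstance, n, c, F, hF, ?_⟩
  -- the ring isomorphism
  haveI hloc : IsLocalization.Away g Γ(X, X.basicOpen g) := U₀.2.isLocalization_basicOpen g
  let e' : Localization.Away g ≃ₐ[Γ(X, U₀.1)] Γ(X, X.basicOpen g) :=
    IsLocalization.algEquiv (Submonoid.powers g) _ _
  let ψ : Synt.RelGCIRing Γ(S, V.1) n c F ≃+* Γ(X, X.basicOpen g) :=
    ε.symm.toRingEquiv.trans e'.toRingEquiv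
  have hψ : ∀ r : Γ(S, V.1), ψ (algebraMap Γ(S, V.1) (Synt.RelGCIRing Γ(S, V.1) n c F) r) =
      (f.appLE V.1 (X.basicOpen g) e).hom r := by
    intro r
    change e' (ε.symm (algebraMap Γ(S, V.1) (Synt.RelGCIRing Γ(S, V.1) n c F) r)) = _
    rw [ε.symm.commutes, IsScalarTower.algebraMap_apply Γ(S, V.1) Γ(X, U₀.1) (Localization.Away g),
      e'.commutes, hRA]
    change (X.presheaf.map (homOfLE hUU₀).op).hom ((f.appLE V.1 U₀.1 e₀).hom r) = _
    rw [← CommRingCat.comp_apply, Scheme.Hom.appLE_map]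
  let ψi : CommRingCat.of (Synt.RelGCIRing Γ(S, V.1) n c F) ≅ Γ(X, X.basicOpen g) :=
    ψ.toCommRingCatIso
  have hψi : CommRingCat.ofHom (algebraMap Γ(S, V.1) (Synt.RelGCIRing Γ(S, V.1) n c F)) ≫ ψi.hom =
      f.appLE V.1 (X.basicOpen g) e := by
    ext r
    exact hψ r
  refine ⟨hU.isoSpec ≪≫ Scheme.Spec.mapIso ψi.op, V.2.isoSpec, ?_⟩
  rw [← cancel_mono (V.2.isoSpec.inv ≫ V.1.ι)]
  simp only [Iso.trans_hom, Functor.mapIso_hom, Iso.op_hom, Scheme.Spec_map, Quiver.Hom.unop_op,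
    Category.assoc, Iso.hom_inv_id_assoc, Scheme.Hom.resLE_comp_ι]
  rw [IsAffineOpen.isoSpec_inv_ι, ← Spec.map_comp_assoc, hψi,
    IsAffineOpen.SpecMap_appLE_fromSpec f V.2 hU e, IsAffineOpen.isoSpec_hom_fromSpec_assoc]

/-- **Syntomic at a point = standard syntomic on a neighbourhood over a given affine.** -/
theorem isSyntomicAt_iff_exists_isStandardSyntomic (f : X ⟶ S) (x : X) (V : S.affineOpens)
    (hV : f x ∈ V.1) :
    Synt.IsSyntomicAt f x ↔
      ∃ (U : X.affineOpens) (e : U.1 ≤ f ⁻¹ᵁ V.1), x ∈ U.1 ∧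
        Synt.IsStandardSyntomic (f.resLE V.1 U.1 e) := by
  constructor
  · intro h
    obtain ⟨U₀, e₀, hx, h₀⟩ := exists_syntHom_appLE_of_isSyntomicAt f x h V hV
    exact exists_isStandardSyntomic_of_syntHom f x U₀ V e₀ hx h₀
  · rintro ⟨U, e, hx, h⟩
    exact ⟨U, V, e, hx, syntHom_appLE_of_isStandardSyntomic f U V e h⟩

end Groth.Agent.H47.Synt
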