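import Mathlib
import Groth.Prelude.Def_RegImm
import Groth.Prelude.Def_Flat
import Groth.Agent.H47.Synt.Standard
import Groth.Agent.H17.Chev.FibreLocal
import Groth.Agent.S9366

/-!
# The fibre dimension of a syntomic morphism is locally constant
-/

set_option autoImplicit false
set_option linter.style.haveILetI false
set_option linter.unusedSectionVars false

universe u

open AlgebraicGeometry CategoryTheory Limits

namespace Groth.Agent.H47.Synt

variable {X S : Scheme.{u}}

/-- On a standard syntomic chart the local fibre dimension is the constant `n - c`. -/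
theorem exists_fibreDimAt_eq_of_isSyntomicAt (f : X ⟶ S) (x : X) (h : Synt.IsSyntomicAt f x) :
    ∃ (U : X.Opens) (d : ℕ), x ∈ U ∧ ∀ y ∈ U, FlatMor.fibreDimAt f y = (d : WithBot ℕ∞) := by
  obtain ⟨_, ⟨V, hV, rfl⟩, hxV, -⟩ :=
    S.isBasis_affineOpens.exists_subset_of_mem_open (Set.mem_univ (f x)) isOpen_univ
  obtain ⟨U, e, hxU, R, _, n, c, F, hF, e₁, e₂, hsq⟩ :=
    (isSyntomicAt_iff_exists_isStandardSyntomic f x ⟨V, hV⟩ hxV).mp h
  refine ⟨U.1, n - c, hxU, fun y hy => ?_⟩
  have hinj : Function.Injective e₂.hom.base := by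
    intro a b hab
    have := congrArg e₂.inv.base hab
    simp only [← Scheme.Hom.comp_apply, Iso.hom_inv_id] at this
    exact this
  rw [← Groth.Agent.H17.Chev.fibreDimAt_resLE f V U.1 e ⟨y, hy⟩,
    Groth.Agent.H17.Chev.fibreDimAt_eq_of_isOpenImmersion
      (Spec.map (CommRingCat.ofHom (algebraMap R (Synt.RelGCIRing R n c F))))
      (f.resLE V U.1 e) e₁.hom e₂.hom hinj hsq.symm ⟨y, hy⟩]
  exact Groth.Agent.S9366.result R n c F hF _

theorem isLocallyConstant_fibreDimAt (f : X ⟶ S) (hf : Synt.IsSyntomicMor f) :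
    IsLocallyConstant (fun x : ↑X => FlatMor.fibreDimAt f x) := by
  rw [IsLocallyConstant.iff_exists_open]
  intro x
  obtain ⟨U, d, hxU, hd⟩ := exists_fibreDimAt_eq_of_isSyntomicAt f x (hf x)
  exact ⟨U.1, U.isOpen, hxU, fun y hy => by rw [hd y hy, hd x hxU]⟩

end Groth.Agent.H47.Synt
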